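import Cfsg.Agent.HN.Code

/-! Finite tables: the action of `S₅ = ⟨f, s2⟩` on the codes. -/

set_option autoImplicit false
set_option maxRecDepth 100000
set_option synthInstance.maxSize 4000

namespace Cfsg.Lib.HN

/-- words (product order, `0 = f`, `1 = s2`) for the 120 cosets of `R` -/
def WS : List (List ℕ) :=
  [[], [0], [1], [0,0], [0,1], [1,0], [0,0,0], [0,0,1], [0,1,0], [1,0,0], [1,0,1], [0,0,0,0],
  [0,0,0,1], [0,0,1,0], [0,1,0,0], [0,1,0,1], [1,0,0,0], [1,0,0,1], [1,0,1,0], [0,0,0,0,1],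
  [0,0,0,1,0], [0,0,1,0,0], [0,0,1,0,1], [0,1,0,0,0], [0,1,0,0,1], [0,1,0,1,0], [1,0,0,0,0],
  [1,0,0,0,1], [1,0,0,1,0], [1,0,1,0,0], [1,0,1,0,1], [0,0,0,0,1,0], [0,0,0,1,0,0], [0,0,0,1,0,1],
  [0,0,1,0,0,0], [0,0,1,0,0,1], [0,0,1,0,1,0], [0,1,0,0,0,0], [0,1,0,0,0,1], [0,1,0,0,1,0],
  [0,1,0,1,0,0], [0,1,0,1,0,1], [1,0,0,0,0,1], [1,0,0,0,1,0], [1,0,0,1,0,0], [1,0,0,1,0,1],
  [1,0,1,0,0,0], [1,0,1,0,0,1], [1,0,1,0,1,0], [0,0,0,0,1,0,0], [0,0,0,1,0,0,0], [0,0,0,1,0,0,1],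
  [0,0,0,1,0,1,0], [0,0,1,0,0,0,0], [0,0,1,0,0,0,1], [0,0,1,0,0,1,0], [0,0,1,0,1,0,0],
  [0,0,1,0,1,0,1], [0,1,0,0,0,1,0], [0,1,0,0,1,0,0], [0,1,0,0,1,0,1], [0,1,0,1,0,0,0],
  [0,1,0,1,0,0,1], [0,1,0,1,0,1,0], [1,0,0,0,0,1,0], [1,0,0,0,1,0,0], [1,0,0,0,1,0,1],
  [1,0,0,1,0,0,0], [1,0,0,1,0,1,0], [1,0,1,0,0,0,0], [1,0,1,0,0,0,1], [1,0,1,0,0,1,0],
  [1,0,1,0,1,0,0], [1,0,1,0,1,0,1], [0,0,0,0,1,0,0,0], [0,0,0,0,1,0,0,1], [0,0,0,1,0,0,0,0],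
  [0,0,0,1,0,0,1,0], [0,0,0,1,0,1,0,0], [0,0,0,1,0,1,0,1], [0,0,1,0,0,0,1,0], [0,0,1,0,0,1,0,1],
  [0,0,1,0,1,0,0,0], [0,1,0,0,0,1,0,0], [0,1,0,0,1,0,0,0], [0,1,0,0,1,0,1,0], [0,1,0,1,0,0,0,0],
  [0,1,0,1,0,0,0,1], [0,1,0,1,0,0,1,0], [0,1,0,1,0,1,0,1], [1,0,0,0,0,1,0,0], [1,0,0,0,1,0,0,1],
  [1,0,0,0,1,0,1,0], [1,0,0,1,0,0,0,0], [1,0,0,1,0,0,0,1], [1,0,1,0,0,0,1,0], [1,0,1,0,0,1,0,0],
  [1,0,1,0,1,0,0,0], [1,0,1,0,1,0,1,0], [0,0,0,0,1,0,0,0,0], [0,0,0,0,1,0,0,1,0],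
  [0,0,1,0,0,0,1,0,0], [0,0,1,0,1,0,0,0,0], [0,0,1,0,1,0,0,0,1], [0,1,0,0,0,1,0,0,1],
  [0,1,0,0,1,0,0,0,0], [0,1,0,1,0,0,0,1,0], [1,0,0,0,0,1,0,0,0], [1,0,0,0,0,1,0,0,1],
  [1,0,0,0,1,0,1,0,0], [1,0,0,0,1,0,1,0,1], [1,0,0,1,0,0,0,1,0], [1,0,1,0,0,0,1,0,0],
  [1,0,1,0,1,0,0,0,0], [1,0,1,0,1,0,0,0,1], [0,1,0,1,0,0,0,1,0,0], [1,0,0,1,0,0,0,1,0,0],
  [1,0,1,0,0,0,1,0,0,1], [1,0,1,0,1,0,0,0,1,0], [1,0,1,0,1,0,0,0,1,0,0]]

/-- their action on the basis vectors -/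
def TB : List (List ℕ) :=
  [[1,2,4,8,16,32,64,128], [1,52,68,20,102,16,42,128], [1,3,124,34,67,11,18,204],
  [1,50,110,34,74,102,48,128], [1,53,12,36,31,33,82,250], [1,52,110,63,102,67,42,204],
  [1,66,94,36,10,74,118,128], [1,51,80,84,3,17,120,252], [1,50,94,19,74,31,48,250],
  [1,75,68,8,51,102,72,204], [1,53,94,119,31,10,82,183], [1,30,40,84,32,10,44,128],
  [1,67,76,8,53,103,72,140], [1,66,40,83,10,3,118,252], [1,11,110,20,67,74,62,250],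
  [1,51,40,45,3,32,120,135], [1,17,12,119,33,51,37,204], [1,74,81,45,2,66,120,200],
  [1,75,12,65,51,31,72,183], [1,31,122,20,51,75,62,208], [1,30,4,121,32,53,44,140],
  [1,33,94,34,31,10,18,252], [1,67,4,65,53,16,72,241], [1,103,80,45,17,67,85,250],
  [1,10,77,65,52,30,72,190], [1,11,80,43,67,3,62,135], [1,30,41,45,11,33,85,204],
  [1,16,76,34,53,103,48,146], [1,17,41,83,33,2,37,200], [1,32,68,63,16,51,21,183],
  [1,74,41,84,2,11,120,178], [1,2,68,73,16,51,64,208], [1,17,40,36,3,32,82,140],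
  [1,31,68,43,51,102,62,221], [1,75,76,65,103,31,9,252], [1,32,123,43,50,2,62,146],
  [1,33,76,49,31,53,18,241], [1,2,5,65,33,17,9,250], [1,102,122,36,51,75,118,210],
  [1,103,5,121,17,52,85,190], [1,16,110,19,102,67,35,135], [1,10,5,8,52,33,72,194],
  [1,31,123,63,74,50,21,157], [1,30,124,121,11,53,85,146], [1,10,12,8,31,33,64,200],
  [1,16,124,19,53,67,48,151], [1,103,81,84,66,16,44,183], [1,33,77,19,52,30,48,217],
  [1,32,81,43,16,2,21,178], [1,103,4,84,53,16,120,208], [1,11,122,43,75,3,21,140],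
  [1,16,125,49,66,52,18,210], [1,17,122,119,3,51,82,221], [1,52,69,43,17,103,21,252],
  [1,74,124,84,67,11,44,248], [1,75,69,73,103,50,9,146], [1,102,94,83,74,31,37,241],
  [1,32,69,20,50,17,62,158], [1,2,12,73,33,51,9,210], [1,32,80,20,3,17,42,190],
  [1,102,12,83,51,31,118,151], [1,75,77,8,30,102,64,135], [1,17,123,83,50,2,118,217],
  [1,16,77,49,102,52,35,194], [1,3,110,49,67,74,18,157], [1,66,41,119,2,11,82,146],
  [1,31,110,43,74,102,21,194], [1,50,76,19,103,31,35,200], [1,10,76,73,31,53,64,151],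
  [1,3,125,19,10,66,35,183], [1,102,123,119,74,50,37,158], [1,103,125,121,66,52,44,217],
  [1,67,68,65,102,16,9,178], [1,33,125,34,52,10,48,221], [1,33,124,49,11,53,35,208],
  [1,102,13,119,30,50,82,248], [1,50,111,49,103,75,35,140], [1,11,111,63,75,66,21,210],
  [1,74,40,121,10,3,85,221], [1,16,111,34,66,103,18,130], [1,52,80,63,17,67,21,248],
  [1,74,80,121,67,3,44,151], [1,11,123,20,2,74,42,241], [1,30,5,45,52,33,120,210],
  [1,66,122,83,75,3,37,190], [1,32,122,63,3,51,42,151], [1,53,13,83,32,30,37,135],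
  [1,74,125,45,10,66,85,130], [1,75,13,73,30,50,64,217], [1,17,13,36,50,32,118,157],
  [1,103,124,45,53,67,120,157], [1,67,5,73,17,52,64,158], [1,66,123,36,2,74,82,194],
  [1,52,111,43,66,103,62,200], [1,51,4,45,16,32,85,180], [1,3,94,49,10,74,35,158],
  [1,11,81,63,2,66,42,217], [1,50,77,34,30,102,18,178], [1,67,77,73,102,52,9,221],
  [1,66,95,119,75,11,37,208], [1,33,95,19,11,30,35,248], [1,2,69,65,50,17,72,248],
  [1,51,81,121,16,2,85,241], [1,10,13,65,32,30,9,180], [1,31,69,63,103,50,42,130],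
  [1,50,95,49,30,75,18,190], [1,53,40,119,32,10,37,130], [1,10,4,73,32,53,9,157],
  [1,102,95,36,30,75,82,180], [1,51,41,121,33,2,44,194], [1,67,69,8,17,103,64,207],
  [1,52,81,20,66,16,62,180], [1,30,125,84,52,10,120,158], [1,53,95,83,11,30,118,178],
  [1,51,5,84,33,17,44,207], [1,2,13,8,50,32,72,130], [1,3,111,19,75,66,48,180],
  [1,31,111,20,103,75,42,207], [1,53,41,36,11,33,118,207], [1,3,95,34,75,11,48,207]]

/-- the table of the `k`-th word -/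
def tb (k : ℕ) : List ℕ := TB.getD k []
/-- action of the `k`-th word on vectors -/
def sk (k c : ℕ) : ℕ := lin (tb k) c
/-- action of a word -/
def linW : List ℕ → ℕ → ℕ
  | [], c => c % 256
  | a :: w, c => lin (cond (a == 0) tF tS2) (linW w c)
/-- the vectors whose elements are conjugate to `t` -/
def inL (c : ℕ) : Bool := Nat.testBit 9502103517961058754634845327564686985009594907018237212282692465748299157006 (c % 256)
/-- the same as a finite set -/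
def L60 : Finset ℕ := (Finset.range 256).filter fun c => inL c = true

theorem tb_eq : ∀ k < 120, ∀ p < 8, linW (WS.getD k []) (2 ^ p) = (tb k).getD p 0 := by
  decide +kernel
theorem tb_ok : ∀ k < 120, ∀ p < 7, (tb k).getD p 0 < 128 := by decide +kernel
theorem tF_ok : ∀ c < 128, lin tF c < 128 ∧ lin tS2 c < 128 ∧ lin tS1 c < 128 := by decide +kernel
theorem tab_ok : ∀ p < 7, (tF.getD p 0).testBit 7 = false ∧ (tS1.getD p 0).testBit 7 = false ∧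
    (tS2.getD p 0).testBit 7 = false := by decide +kernel
theorem sk_lt : ∀ k < 120, ∀ c < 128, sk k c < 128 := by decide +kernel
theorem sk_inj : ∀ k < 120, ∀ l < 120, (∀ p < 7, sk k (2 ^ p) = sk l (2 ^ p)) → k = l := by
  decide +kernel
theorem sk_rigid : ∀ k < 120, (∀ p < 7, sk k (2 ^ p) / 2 = 2 ^ p / 2) → k = 0 := by
  decide +kernel
theorem sk_rigidM : ∀ k < 120, (∀ c ∈ [8, 64, 6, 18, 34], sk k c = c) → k = 0 := by
  decide +kernel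
theorem cenM_fact : ∀ r < 128, (∀ c ∈ [8, 64, 6, 18, 34], BB r c = false) → BB r 78 = false := by
  decide +kernel
theorem sk_invol : ∀ k < 120, (∀ p < 7, sk k (sk k (2 ^ p)) = 2 ^ p) → k = 0 ∨ ∃ l < 120,
    (∀ p < 7, sk k (sk l (2 ^ p)) = sk l (lin tS1 (2 ^ p))) ∨
    (∀ p < 7, sk k (sk l (2 ^ p)) = sk l (lin tS2 (2 ^ p))) := by
  decide +kernel
theorem sk_q : ∀ k < 120, (∀ p < 7, sk k (sk k (2 ^ p)) = 2 ^ p) → k = 0 ∨
    ∃ q < 128, sk k q = q ^^^ 1 := by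
  decide +kernel
theorem sk_five : ∀ k < 120, (∀ p < 7, sk k (sk k (sk k (sk k (sk k (2 ^ p))))) = 2 ^ p) → k = 0 ∨
    ((∀ l < 120, (∀ p < 7, sk l (sk l (2 ^ p)) = 2 ^ p) →
      (∀ p < 7, sk k (sk l (2 ^ p)) = sk l (sk k (2 ^ p))) → l = 0) ∧
    ∀ r < 128, sk k r = r → qq r = false → BB r 78 = false) := by
  decide +kernel
theorem sq1_fact : ∀ r < 512, r.testBit 7 = false →
    mulc (act tS1 r) r % 512 ≠ 256 ∧ (mulc (act tS1 r) r % 512 = 1 → BB r 78 = true) ∧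
    (mulc (act tS1 r) r % 512 = 0 → ∃ k < 128,
      mulc (mulc (act tS1 k) r) (k ^^^ zb (qq k)) % 512 = 0 ∨
      mulc (mulc (act tS1 k) r) (k ^^^ zb (qq k)) % 512 = 34) := by
  decide +kernel
theorem sq2_fact : ∀ r < 512, r.testBit 7 = false →
    mulc (act tS2 r) r % 512 ≠ 256 ∧ (mulc (act tS2 r) r % 512 = 1 → BB r 78 = false) ∧
    (mulc (act tS2 r) r % 512 = 0 → ∃ k < 128, ∃ p ∈ [(0, 1), (1, 0), (30, 52), (52, 30)],
      mulc (mulc (act tS2 k) r) (k ^^^ zb (qq k)) % 512 = p.1 ∧ ∃ k' < 128,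
      mulc (mulc (act tS2 k') (r ^^^ 256)) (k' ^^^ zb (qq k')) % 512 = p.2) := by
  decide +kernel
theorem act_ok : ∀ k < 512, k.testBit 7 = false →
    (act tS1 k).testBit 7 = false ∧ (act tS2 k).testBit 7 = false := by
  decide +kernel
theorem vec_class : ∀ c < 128, qq c = false → c = 0 ∨ c = 1 ∨ ∃ k < 120,
    (inL c = true ∧ (sk k c = 2 ∨ sk k c = 9)) ∨ (inL c = false ∧ (sk k c = 4 ∨ sk k c = 8)) := by
  decide +kernel

end Cfsg.Lib.HN
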